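import Groth.Agent.BlowUpLib.Chart

/-!
# Maps of affine blow-up algebras
-/

universe u

open IsLocalization

namespace Groth.Agent.BlowAlgX

open Groth.Agent

variable {A : Type u} [CommRing A] (I : Ideal A) (π : A)

/-- Elements of `A[I/π]` have the form `x/π^n`, `x ∈ I^n`. -/
theorem exists_eq (hπ : π ∈ I) {q : Localization.Away π} (hq : q ∈ BlowUp.affineAlgebra A I π) :
    ∃ (n : ℕ) (x : A), x ∈ I ^ n ∧ q * algebraMap A _ (π ^ n) = algebraMap A _ x := by
  obtain ⟨z, rfl⟩ := BlowUpLib.θ_surjective I ⟨π, hπ⟩ hq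
  obtain ⟨n, x, hx, rfl⟩ := HomogeneousLocalization.Away.mk_surjective _ (BlowUpLib.gen_mem I ⟨π, hπ⟩) z
  exact ⟨n, BlowUpLib.ev I x, BlowUpLib.ev_mem I (by simpa using hx), BlowUpLib.θ_mk_mul I ⟨π, hπ⟩ n x hx⟩

/-- Any `x/π^n` with `x ∈ I^n` lies in `A[I/π]`. -/
theorem exists_mem (hπ : π ∈ I) (n : ℕ) {x : A} (hx : x ∈ I ^ n) :
    ∃ q : BlowUp.affineAlgebra A I π, (q : Localization.Away π) * algebraMap A _ (π ^ n) = algebraMap A _ x := by
  refine ⟨⟨_, BlowUpLib.mul_invSelf_pow_mem I ⟨π, hπ⟩ n x hx⟩, ?_⟩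
  rw [map_pow, mul_assoc, ← mul_pow, mul_comm (Away.invSelf π), Away.mul_invSelf, one_pow, mul_one]

variable {B : Type u} [CommRing B] [Algebra A B]

theorem awayMap_algebraMap (r : A) :
    Localization.awayMap (algebraMap A B) π (algebraMap A (Localization.Away π) r) =
      algebraMap B (Localization.Away ((algebraMap A B) π)) ((algebraMap A B) r) :=
  IsLocalization.map_eq _ r

theorem unit_pow (n : ℕ) : IsUnit (algebraMap B (Localization.Away ((algebraMap A B) π)) ((algebraMap A B) (π ^ n))) := by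
  rw [map_pow, map_pow]
  exact (Away.algebraMap_isUnit ((algebraMap A B) π)).pow n

variable {I π}
  (ψ : BlowUp.affineAlgebra A I π →+* BlowUp.affineAlgebra B (I.map (algebraMap A B)) ((algebraMap A B) π))
  (hψ : ∀ x : BlowUp.affineAlgebra A I π,
      ((ψ x : BlowUp.affineAlgebra B (I.map (algebraMap A B)) ((algebraMap A B) π)) : Localization.Away ((algebraMap A B) π)) =
        Localization.awayMap (algebraMap A B) π (x : Localization.Away π))

include hψ

theorem ψ_algebraMap (r : A) :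
    ψ (algebraMap A _ r) = algebraMap B _ ((algebraMap A B) r) := by
  refine Subtype.ext ?_
  rw [hψ]
  exact awayMap_algebraMap π r

theorem ψ_spec (q : BlowUp.affineAlgebra A I π) (n : ℕ) (x : A)
    (h : (q : Localization.Away π) * algebraMap A _ (π ^ n) = algebraMap A _ x) :
    ((ψ q : BlowUp.affineAlgebra B (I.map (algebraMap A B)) ((algebraMap A B) π)) : Localization.Away ((algebraMap A B) π)) *
      algebraMap B _ ((algebraMap A B) (π ^ n)) = algebraMap B _ ((algebraMap A B) x) := by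
  rw [hψ, ← awayMap_algebraMap, ← map_mul, h, awayMap_algebraMap]

theorem surjective_of_surjective (hπ : π ∈ I) (hq : Function.Surjective (algebraMap A B)) : Function.Surjective ψ := by
  intro y
  obtain ⟨n, c, hc, hy⟩ := exists_eq (I.map (algebraMap A B)) ((algebraMap A B) π) (Ideal.mem_map_of_mem _ hπ) y.2
  rw [← Ideal.map_pow, Ideal.mem_map_iff_of_surjective _ hq] at hc
  obtain ⟨x, hx, rfl⟩ := hc
  obtain ⟨q, hq'⟩ := exists_mem I π hπ n hx
  refine ⟨q, Subtype.ext ((unit_pow (B := B) π n).mul_left_injective ?_)⟩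
  show _ * _ = _ * _
  rw [ψ_spec ψ hψ q n x hq', map_pow (algebraMap A B)]
  exact hy.symm

theorem ψ_eq_zero_iff (hπ : π ∈ I) (q : BlowUp.affineAlgebra A I π) :
    ψ q = 0 ↔ ∃ (n k : ℕ) (x : A), (q : Localization.Away π) * algebraMap A _ (π ^ n) = algebraMap A _ x ∧
      (algebraMap A B) (π ^ k * x) = 0 := by
  constructor
  · intro h
    obtain ⟨n, x, -, hx⟩ := exists_eq I π hπ q.2
    have h2 := ψ_spec ψ hψ q n x hx
    rw [h, ZeroMemClass.coe_zero, zero_mul, eq_comm,
      IsLocalization.map_eq_zero_iff (Submonoid.powers ((algebraMap A B) π))] at h2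
    obtain ⟨⟨_, k, rfl⟩, hk⟩ := h2
    exact ⟨n, k, x, hx, by rw [map_mul, map_pow]; exact hk⟩
  · rintro ⟨n, k, x, hx, hk⟩
    refine Subtype.ext ((unit_pow (B := B) π n).mul_left_injective ?_)
    show _ * _ = _ * _
    rw [ψ_spec ψ hψ q n x hx, ZeroMemClass.coe_zero, zero_mul]
    rw [map_mul, map_pow] at hk
    exact (IsLocalization.map_eq_zero_iff (Submonoid.powers ((algebraMap A B) π)) _ _).2 ⟨⟨_, k, rfl⟩, hk⟩

theorem ker_iff (hπ : π ∈ I) (q : BlowUp.affineAlgebra A I π) :
    q ∈ RingHom.ker ψ ↔ ∃ m : ℕ, algebraMap A (BlowUp.affineAlgebra A I π) π ^ m * q ∈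
      (RingHom.ker (algebraMap A B)).map (algebraMap A (BlowUp.affineAlgebra A I π)) := by
  constructor
  · intro h
    obtain ⟨n, k, x, hx, hk⟩ := (ψ_eq_zero_iff ψ hψ hπ q).1 h
    refine ⟨k + n, ?_⟩
    have : algebraMap A (BlowUp.affineAlgebra A I π) π ^ (k + n) * q =
        algebraMap A _ (π ^ k * x) := by
      refine Subtype.ext ?_
      show (algebraMap A (Localization.Away π) π) ^ (k + n) * (q : Localization.Away π) =
        algebraMap A (Localization.Away π) (π ^ k * x)
      rw [map_mul, ← hx, map_pow, map_pow, pow_add]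
      ring
    rw [this]
    exact Ideal.mem_map_of_mem _ hk
  · rintro ⟨m, hm⟩
    have h0 : ψ (algebraMap A _ π ^ m * q) = 0 := by
      refine RingHom.mem_ker.1 ((Ideal.map_le_iff_le_comap.2 fun r hr => ?_) hm)
      rw [Ideal.mem_comap, RingHom.mem_ker, ψ_algebraMap ψ hψ, RingHom.mem_ker.1 hr, map_zero]
    rw [map_mul, map_pow, ψ_algebraMap ψ hψ] at h0
    have h1 : (algebraMap B (Localization.Away ((algebraMap A B) π)) ((algebraMap A B) π)) ^ m * ((ψ q : BlowUp.affineAlgebra B (I.map (algebraMap A B)) ((algebraMap A B) π)) : Localization.Away ((algebraMap A B) π)) = 0 :=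
      congrArg Subtype.val h0
    exact RingHom.mem_ker.2 (Subtype.ext (((Away.algebraMap_isUnit ((algebraMap A B) π)).pow m).mul_right_eq_zero.1 h1))

theorem isLocalization_away (hπ : π ∈ I) (a : A) [IsLocalization.Away a B] :
    letI := ψ.toAlgebra
    IsLocalization.Away (algebraMap A (BlowUp.affineAlgebra A I π) a)
      (BlowUp.affineAlgebra B (I.map (algebraMap A B)) ((algebraMap A B) π)) := by
  letI := ψ.toAlgebra
  refine ⟨?_, ?_, ?_⟩
  · rintro ⟨_, k, rfl⟩
    show IsUnit (ψ (algebraMap A _ a ^ k))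
    rw [map_pow, ψ_algebraMap ψ hψ]
    exact ((Away.algebraMap_isUnit a).map _).pow k
  · intro y
    obtain ⟨n, c, hc, hy⟩ := exists_eq (I.map (algebraMap A B)) ((algebraMap A B) π) (Ideal.mem_map_of_mem _ hπ) y.2
    rw [← Ideal.map_pow, IsLocalization.mem_map_algebraMap_iff (Submonoid.powers a) B] at hc
    obtain ⟨⟨⟨x, hx⟩, ⟨_, k, rfl⟩⟩, hxk⟩ := hc
    obtain ⟨q, hq⟩ := exists_mem I π hπ n hx
    refine ⟨(q, ⟨_, k, rfl⟩), ?_⟩
    show y * ψ (algebraMap A _ a ^ k) = ψ q
    rw [map_pow, ψ_algebraMap ψ hψ]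
    refine Subtype.ext ((unit_pow (B := B) π n).mul_left_injective ?_)
    show ((y : Localization.Away ((algebraMap A B) π)) * (algebraMap B (Localization.Away ((algebraMap A B) π)) ((algebraMap A B) a)) ^ k) * _ = _ * _
    rw [ψ_spec ψ hψ q n x hq, mul_right_comm, map_pow, hy, ← map_pow, ← map_mul, ← map_pow]
    exact congrArg _ hxk
  · intro x y h
    have h0 : ψ (x - y) = 0 := by rw [map_sub]; exact sub_eq_zero.2 h
    obtain ⟨n, k, z, hz, hk⟩ := (ψ_eq_zero_iff ψ hψ hπ (x - y)).1 h0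
    obtain ⟨⟨_, l, rfl⟩, hl⟩ := (IsLocalization.map_eq_zero_iff (Submonoid.powers a) B _).1 hk
    refine ⟨⟨_, l, rfl⟩, ?_⟩
    rw [← sub_eq_zero, ← mul_sub]
    refine Subtype.ext ?_
    show (algebraMap A (Localization.Away π) a) ^ l * ((x - y : BlowUp.affineAlgebra A I π) : Localization.Away π) = 0
    have hu : IsUnit (algebraMap A (Localization.Away π) (π ^ (k + n))) := by
      rw [map_pow]; exact (Away.algebraMap_isUnit π).pow _
    refine hu.mul_left_eq_zero.1 ?_
    have h3 : (algebraMap A (Localization.Away π) a) ^ l * ((x - y : BlowUp.affineAlgebra A I π) : Localization.Away π) *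
        algebraMap A (Localization.Away π) (π ^ (k + n)) = algebraMap A (Localization.Away π) (a ^ l * (π ^ k * z)) := by
      rw [map_mul, map_mul, ← hz, map_pow, map_pow, map_pow, map_pow, pow_add]
      ring
    rw [h3]
    simp only at hl
    rw [hl, map_zero]

end Groth.Agent.BlowAlgX
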